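import Mathlib.Algebra.Category.ModuleCat.Projective
import Mathlib.Algebra.Homology.DerivedCategory.Ext.EnoughProjectives
import Mathlib.Algebra.Homology.DerivedCategory.Ext.ExactSequences
import Mathlib.CategoryTheory.Abelian.Projective.Dimension
import Mathlib.Algebra.Category.ModuleCat.Ext.HasExt
import Mathlib.RingTheory.LocalRing.Module
import Mathlib.RingTheory.Noetherian.Basic
import Groth.Agent.S0563

/-! # `Ext(M, A)` detects the projective dimension of a finite module -/

set_option autoImplicit false
universe u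

open CategoryTheory Abelian

namespace Groth.Agent.ExtSelf

variable {A : Type u} [CommRing A] [IsNoetherianRing A]

/-- The top possibly nonzero `Ext(M, A)` vanishes only if the dimension drops. -/
theorem drop : ∀ (m : ℕ) (M : Type u) [AddCommGroup M] [Module A M] [Module.Finite A M],
    HasProjectiveDimensionLT (ModuleCat.of A M) (m + 2) →
    Subsingleton (Ext (ModuleCat.of A M) (ModuleCat.of A A) (m + 1)) →
    HasProjectiveDimensionLT (ModuleCat.of A M) (m + 1) := by
  intro m
  induction m with
  | zero =>
    intro M _ _ _ hpd hsub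
    obtain ⟨n, f, hf⟩ := Module.Finite.exists_fin' A M
    let S := f.shortComplexKer
    have hS : S.ShortExact := LinearMap.shortExact_shortComplexKer hf
    haveI h2 : Projective S.X₂ := ModuleCat.projective_of_free (ι := Fin n) (Pi.basisFun A (Fin n))
    haveI : Projective S.X₁ := projective_iff_hasProjectiveDimensionLT_one.2
      ((hS.hasProjectiveDimensionLT_X₃_iff 0 h2).1 hpd)
    haveI : Module.Projective A (LinearMap.ker f) :=
      (IsProjective.iff_projective (R := A) (LinearMap.ker f)).2 ‹_›
    haveI : Module.Finite A (LinearMap.ker f) := Module.IsNoetherian.finite _ _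
    obtain ⟨r, g, hg⟩ := Module.Finite.exists_fin' A (LinearMap.ker f)
    obtain ⟨s, hs⟩ := Module.projective_lifting_property g LinearMap.id hg
    have hext : ∀ φ : S.X₁ ⟶ ModuleCat.of A A, ∃ ψ : S.X₂ ⟶ ModuleCat.of A A, S.f ≫ ψ = φ := fun φ => by
      haveI := hsub
      obtain ⟨x, hx⟩ := Ext.contravariant_sequence_exact₁ hS (ModuleCat.of A A) (Ext.mk₀ φ) (n₁ := 1) rfl
        (Subsingleton.elim (α := Ext (ModuleCat.of A M) (ModuleCat.of A A) 1) _ _)
      obtain ⟨ψ, rfl⟩ := (Ext.mk₀_bijective _ _).2 x
      rw [Ext.mk₀_comp_mk₀] at hx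
      exact ⟨ψ, (Ext.mk₀_bijective _ _).1 hx⟩
    choose ψ hψ using fun i : Fin r => hext (ModuleCat.ofHom ((LinearMap.proj i).comp s))
    let ρ : (Fin n → A) →ₗ[A] LinearMap.ker f := g.comp (LinearMap.pi fun i => (ψ i).hom)
    have hρ : ρ ∘ₗ (LinearMap.ker f).subtype = LinearMap.id := LinearMap.ext fun x => by
      show g (fun i => (ψ i).hom (x : Fin n → A)) = x
      rw [show (fun i => (ψ i).hom (x : Fin n → A)) = s x from
        funext fun i => LinearMap.congr_fun (congrArg ModuleCat.Hom.hom (hψ i)) x]
      exact LinearMap.congr_fun hs x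
    obtain ⟨σ, hσ⟩ : ∃ σ : M →ₗ[A] (Fin n → A), f ∘ₗ σ = LinearMap.id := by
      have hex : Function.Exact (LinearMap.ker f).subtype f := LinearMap.exact_subtype_ker_map f
      exact ((hex.split_tfae Subtype.val_injective hf).out 1 0 :).1 ⟨ρ, hρ⟩
    haveI : Module.Projective A M := Module.Projective.of_split σ f hσ
    exact projective_iff_hasProjectiveDimensionLT_one.1
      ((IsProjective.iff_projective (R := A) M).1 inferInstance)
  | succ m ih =>
    intro M _ _ _ hpd hsub
    obtain ⟨n, f, hf⟩ := Module.Finite.exists_fin' A M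
    let S := f.shortComplexKer
    have hS : S.ShortExact := LinearMap.shortExact_shortComplexKer hf
    haveI h2 : Projective S.X₂ := ModuleCat.projective_of_free (ι := Fin n) (Pi.basisFun A (Fin n))
    haveI : Module.Finite A (LinearMap.ker f) := Module.IsNoetherian.finite _ _
    refine (hS.hasProjectiveDimensionLT_X₃_iff m h2).2
      (ih (LinearMap.ker f) ((hS.hasProjectiveDimensionLT_X₃_iff (m + 1) h2).1 hpd) ⟨fun a b => ?_⟩)
    suffices h : ∀ x : Ext S.X₁ (ModuleCat.of A A) (m + 1), x = 0 from (h a).trans (h b).symm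
    intro x
    haveI := hsub
    obtain ⟨y, rfl⟩ := Ext.contravariant_sequence_exact₁ hS (ModuleCat.of A A) x (n₁ := m + 1 + 1) (by omega)
      (Subsingleton.elim (α := Ext (ModuleCat.of A M) (ModuleCat.of A A) (m + 1 + 1)) _ _)
    rw [y.eq_zero_of_projective, Ext.comp_zero]

/-- Vanishing of `Ext^j(M, A)` for `j > d` bounds the projective dimension by `d` over a regular local ring. -/
theorem pdLT_of_vanish [IsRegularLocalRing A] (M : Type u) [AddCommGroup M] [Module A M] [Module.Finite A M]
    {N : ℕ} (hN : ringKrullDim A = N) (d : ℕ)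
    (h : ∀ j, d < j → j ≤ N → Subsingleton (Ext (ModuleCat.of A M) (ModuleCat.of A A) j)) :
    HasProjectiveDimensionLT (ModuleCat.of A M) (d + 1) := by
  haveI hN' := Groth.Agent.S0563.result A N hN M
  have hall : ∀ j, d < j → Subsingleton (Ext (ModuleCat.of A M) (ModuleCat.of A A) j) := fun j hj => by
    by_cases hjN : j ≤ N
    · exact h j hj hjN
    · exact HasProjectiveDimensionLT.subsingleton (ModuleCat.of A M) (N + 1) j (by omega) _
  have hdown : ∀ k, HasProjectiveDimensionLT (ModuleCat.of A M) (d + k + 1) →
      HasProjectiveDimensionLT (ModuleCat.of A M) (d + 1) := by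
    intro k
    induction k with
    | zero => exact fun hk => hk
    | succ k ih => exact fun hk => ih (drop (d + k) M hk (hall _ (by omega)))
  exact hdown N (hasProjectiveDimensionLT_of_ge _ (N + 1) _ (by omega))

end Groth.Agent.ExtSelf
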